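import Groth.Agent.OmegaLib.Der
import Groth.Agent.AmpleLib.Relative
import Groth.Prelude.Def_Frob
import Mathlib.AlgebraicGeometry.Morphisms.Flat

/-! # Derivations relative to `f` are derivations relative to the relative Frobenius -/

set_option autoImplicit false
set_option backward.isDefEq.respectTransparency false
set_option backward.isDefEq.respectTransparency.types false

universe u

open CategoryTheory CategoryTheory.Limits AlgebraicGeometry TopologicalSpace Opposite
open Groth.Agent.OmegaLib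

namespace Groth.Agent.Frob8

theorem closure_eq_top_of_isPushout {R A B P : CommRingCat.{u}} {a : R ⟶ A} {b : R ⟶ B} {i : A ⟶ P} {j : B ⟶ P}
    (h : IsPushout a b i j) (T : Subring P) (hi : ∀ x, i x ∈ T) (hj : ∀ x, j x ∈ T) : T = ⊤ := by
  let i' : A ⟶ CommRingCat.of T := CommRingCat.ofHom (i.hom.codRestrict T hi)
  let j' : B ⟶ CommRingCat.of T := CommRingCat.ofHom (j.hom.codRestrict T hj)
  let ι : CommRingCat.of T ⟶ P := CommRingCat.ofHom T.subtype
  have hι : Mono ι := ConcreteCategory.mono_of_injective _ Subtype.val_injective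
  have hw : a ≫ i' = b ≫ j' := by
    rw [← cancel_mono ι]
    exact h.w
  have hid : h.desc i' j' hw ≫ ι = 𝟙 P := by
    refine h.hom_ext ?_ ?_
    · rw [h.inl_desc_assoc, Category.comp_id]; rfl
    · rw [h.inr_desc_assoc, Category.comp_id]; rfl
  rw [eq_top_iff]
  intro x _
  rw [← show (h.desc i' j' hw ≫ ι) x = x by rw [hid]; rfl]
  exact (h.desc i' j' hw x).2

variable (p : ℕ) [Fact p.Prime] {X S : Scheme.{u}} [FrobSch.IsCharP S p] (f : X ⟶ S)

theorem app_relFrob_eq_zero {Ω : X.Modules} (d : OmegaSh.Der f Ω) (V : (FrobSch.frobTwist f p).Opens)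
    (c : Γ(FrobSch.frobTwist f p, V)) :
    d.app (FrobSch.relFrob f p ⁻¹ᵁ V) ((FrobSch.relFrob f p).app V c) = 0 := by
  haveI : FrobSch.IsCharP X p := FrobSch.IsCharP.of_hom f p
  let F := FrobSch.relFrob f p
  let π₁ := pullback.fst f (FrobSch.frob S p)
  let π₂ := pullback.snd f (FrobSch.frob S p)
  refine section_ext fun x hx => ?_
  obtain ⟨_, ⟨W, hW, rfl⟩, hxW, -⟩ :=
    S.isBasis_affineOpens.exists_subset_of_mem_open (Set.mem_univ (f x)) isOpen_univ
  obtain ⟨U, hU, hxU, hUW⟩ := Opens.isBasis_iff_nbhd.mp X.isBasis_affineOpens (show x ∈ f ⁻¹ᵁ W from hxW)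
  have hWW : W ≤ FrobSch.frob S p ⁻¹ᵁ W := le_of_eq (FrobSch.frob_preimage S p W).symm
  let V₀ : (FrobSch.frobTwist f p).Opens := π₁ ⁻¹ᵁ U ⊓ π₂ ⁻¹ᵁ W
  have hV₀ : IsAffineOpen V₀ := AmpleLib.isAffineOpen_fst_inf_snd f (FrobSch.frob S p) hW hU hW hUW hWW
  have hpre : F ⁻¹ᵁ V₀ = U := by
    rw [Scheme.Hom.preimage_inf, ← Scheme.Hom.comp_preimage, ← Scheme.Hom.comp_preimage,
      FrobSch.relFrob_fst, FrobSch.relFrob_snd, FrobSch.frob_preimage, inf_eq_left]
    exact hUW
  have hpush := (isIso_pushoutSection_iff (IsPullback.of_hasPullback f (FrobSch.frob S p)) hWW hUW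
    (rfl : V₀ = _)).1 (isIso_pushoutSection_of_isAffineOpen _ hWW hUW rfl hW hW hU)
  let T : Subring Γ(FrobSch.frobTwist f p, V₀) :=
    { carrier := {b | d.app (F ⁻¹ᵁ V₀) (F.app V₀ b) = 0}
      mul_mem' := fun {a b} ha hb => by
        simp only [Set.mem_setOf_eq] at ha hb ⊢
        rw [map_mul, app_mul, ha, hb, smul_zero, smul_zero, add_zero]
      one_mem' := by simp only [Set.mem_setOf_eq]; rw [map_one, app_one]
      add_mem' := fun {a b} ha hb => by
        simp only [Set.mem_setOf_eq] at ha hb ⊢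
        rw [map_add, map_add, ha, hb, add_zero]
      zero_mem' := by simp only [Set.mem_setOf_eq]; rw [map_zero, map_zero]
      neg_mem' := fun {a} ha => by
        simp only [Set.mem_setOf_eq] at ha ⊢
        rw [map_neg, map_neg, ha, neg_zero] }
  have hcomp : ∀ {Z : Scheme.{u}} (g : FrobSch.frobTwist f p ⟶ Z) (h : X ⟶ Z) (_ : F ≫ g = h) (O : Z.Opens)
      (e : V₀ ≤ g ⁻¹ᵁ O) (a : Γ(Z, O)), F.app V₀ (g.appLE O V₀ e a) = h.appLE O (F ⁻¹ᵁ V₀)
        (by subst h; exact (F.preimage_mono e)) a := by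
    intro Z g h hh O e a
    subst h
    rw [Scheme.Hom.app_eq_appLE, ← CommRingCat.comp_apply, Scheme.Hom.appLE_comp_appLE]
  have hT : T = ⊤ := by
    refine closure_eq_top_of_isPushout hpush T (fun a => ?_) (fun a => ?_)
    · show d.app (F ⁻¹ᵁ V₀) (F.app V₀ (π₁.appLE U V₀ _ a)) = 0
      rw [hcomp π₁ (FrobSch.frob X p) (FrobSch.relFrob_fst f p) U _ a]
      have h0 : ((p : ℕ) : Γ(X, F ⁻¹ᵁ V₀)) = 0 := FrobSch.natCast_eq_zero_app X p (F ⁻¹ᵁ V₀)
      rw [Scheme.Hom.appLE, CommRingCat.comp_apply, FrobSch.frob_app, map_pow]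
      generalize X.presheaf.map _ a = b
      obtain ⟨n, hn⟩ : ∃ n, p = n + 1 := ⟨p - 1, by have := (Fact.out : p.Prime).pos; omega⟩
      have key : ∀ m : ℕ, d.app (F ⁻¹ᵁ V₀) (b ^ (m + 1)) = (((m + 1 : ℕ) : Γ(X, F ⁻¹ᵁ V₀)) * b ^ m) • d.app (F ⁻¹ᵁ V₀) b := by
        intro m
        induction m with
        | zero => rw [zero_add, pow_one, Nat.cast_one, pow_zero, one_mul, one_smul]
        | succ m ih =>
          rw [pow_succ b (m + 1), app_mul, ih, smul_smul, ← add_smul]
          congr 1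
          push_cast
          ring
      rw [show b ^ p = b ^ (n + 1) by rw [← hn], key n, show ((n + 1 : ℕ) : Γ(X, F ⁻¹ᵁ V₀)) = 0 by rw [← hn]; exact h0, zero_mul, zero_smul]
    · show d.app (F ⁻¹ᵁ V₀) (F.app V₀ (π₂.appLE W V₀ _ a)) = 0
      rw [hcomp π₂ f (FrobSch.relFrob_snd f p) W _ a]
      exact app_appLE d _ a
  have hxV₀ : F x ∈ V₀ := show x ∈ F ⁻¹ᵁ V₀ from hpre.symm ▸ hxU
  obtain ⟨g, hgle, hxg⟩ := hV₀.exists_basicOpen_le ⟨F x, show F x ∈ V from hx⟩ hxV₀
  refine ⟨F ⁻¹ᵁ (FrobSch.frobTwist f p).basicOpen g, F.preimage_mono hgle, hxg, ?_⟩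
  rw [map_zero, ← app_map]
  have e1 : X.presheaf.map (homOfLE (F.preimage_mono hgle)).op (F.app V c) =
      F.app _ ((FrobSch.frobTwist f p).presheaf.map (homOfLE hgle).op c) :=
    (ConcreteCategory.congr_hom (F.naturality (homOfLE hgle).op) c).symm
  rw [e1]
  generalize (FrobSch.frobTwist f p).presheaf.map (homOfLE hgle).op c = t
  haveI := hV₀.isLocalization_basicOpen g
  obtain ⟨⟨b, m, n, rfl⟩, hb⟩ := IsLocalization.surj (Submonoid.powers g) t
  have hres : ∀ a : Γ(FrobSch.frobTwist f p, V₀), d.app (F ⁻¹ᵁ (FrobSch.frobTwist f p).basicOpen g)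
      (F.app _ (algebraMap Γ(FrobSch.frobTwist f p, V₀) Γ(FrobSch.frobTwist f p, (FrobSch.frobTwist f p).basicOpen g) a)) = 0 := by
    intro a
    have e2 : F.app _ (algebraMap Γ(FrobSch.frobTwist f p, V₀) Γ(FrobSch.frobTwist f p, (FrobSch.frobTwist f p).basicOpen g) a) =
        X.presheaf.map (homOfLE (F.preimage_mono ((FrobSch.frobTwist f p).basicOpen_le g))).op (F.app V₀ a) :=
      ConcreteCategory.congr_hom (F.naturality (homOfLE ((FrobSch.frobTwist f p).basicOpen_le g)).op) a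
    rw [e2, app_map, (show a ∈ T from hT ▸ Subring.mem_top a : d.app (F ⁻¹ᵁ V₀) (F.app V₀ a) = 0), map_zero]
  have h1 := congrArg (fun z => d.app _ (F.app _ z)) hb
  simp only [map_mul, app_mul, hres, smul_zero, zero_add] at h1
  refine eq_zero_of_isUnit_smul ?_ h1
  exact ((IsLocalization.map_units _ (⟨g ^ n, n, rfl⟩ : Submonoid.powers g))).map (F.app _).hom

/-- the same values, as a derivation relative to the relative Frobenius -/
noncomputable def relDer {Ω : X.Modules} (d : OmegaSh.Der f Ω) : OmegaSh.Der (FrobSch.relFrob f p) Ω where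
  d {U} := d.d (X := U)
  d_mul a b := d.d_mul a b
  d_map g a := d.d_map g a
  d_app {V} c := app_relFrob_eq_zero p f d V.unop c

theorem exists_universal {Ω : X.Modules} (d : OmegaSh.Der f Ω) (hd : OmegaSh.IsUniversal d) :
    ∃ d' : OmegaSh.Der (FrobSch.relFrob f p) Ω,
      (∀ (U : X.Opens) (s : Γ(X, U)), d'.app U s = d.app U s) ∧ OmegaSh.IsUniversal d' := by
  refine ⟨relDer p f d, fun _ _ => rfl, fun G D => ?_⟩
  let D₀ : OmegaSh.Der f G :=
    { d := fun {U} => D.d (X := U)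
      d_mul := fun a b => D.d_mul a b
      d_map := fun g a => D.d_map g a
      d_app := fun {W} c => by
        have key : ∀ (h : X ⟶ S) (_ : FrobSch.relFrob f p ≫ pullback.snd f (FrobSch.frob S p) = h),
            D.app (h ⁻¹ᵁ W.unop) (h.app W.unop c) = 0 := by
          intro h hh
          subst h
          exact app_app D _ ((pullback.snd f (FrobSch.frob S p)).app W.unop c)
        exact key f (FrobSch.relFrob_snd f p) }
  obtain ⟨α, hα, huniq⟩ := hd G D₀
  refine ⟨α, der_ext fun U s => congrArg (fun E : OmegaSh.Der f G => E.app U s) hα, fun β hβ => huniq β ?_⟩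
  exact der_ext fun U s => congrArg (fun E : OmegaSh.Der (FrobSch.relFrob f p) G => E.app U s) hβ

end Groth.Agent.Frob8
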